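-- Team project CHO (S1082): package [FIN-D4] (helper46).
import Mathlib
import Cfsg.Agent.Lib.Helper99.CHO.Defs2

set_option autoImplicit false
open scoped MatrixGroups
open Matrix

namespace Cfsg.Agent.Lib.Helper46.CHO
open Cfsg.Agent.Lib.Helper99.CHO

universe u

section
variable {K : Type u} [Field K]

/-- The polar form of `quadFormPlus 4`. -/
def polD (u v : Fin 4 ⊕ Fin 4 → K) : K :=
  ∑ i : Fin 4, (u (Sum.inl i) * v (Sum.inr i) + v (Sum.inl i) * u (Sum.inr i))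

theorem polD_eq (u v : Fin 4 ⊕ Fin 4 → K) :
    polD u v = Cfsg.quadFormPlus 4 K (u + v) - Cfsg.quadFormPlus 4 K u
      - Cfsg.quadFormPlus 4 K v := by
  simp only [polD, Cfsg.quadFormPlus, Pi.add_apply, ← Finset.sum_sub_distrib]
  refine Finset.sum_congr rfl (fun i _ => ?_)
  ring

theorem iso_quadD {g : GL (Fin 4 ⊕ Fin 4) K}
    (hg : g ∈ Cfsg.isometryGroup K (Cfsg.quadFormPlus 4 K)) (u : Fin 4 ⊕ Fin 4 → K) :
    Cfsg.quadFormPlus 4 K ((g : Matrix (Fin 4 ⊕ Fin 4) (Fin 4 ⊕ Fin 4) K) *ᵥ u)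
      = Cfsg.quadFormPlus 4 K u := hg u u

theorem iso_polD {g : GL (Fin 4 ⊕ Fin 4) K}
    (hg : g ∈ Cfsg.isometryGroup K (Cfsg.quadFormPlus 4 K)) (u v : Fin 4 ⊕ Fin 4 → K) :
    polD ((g : Matrix (Fin 4 ⊕ Fin 4) (Fin 4 ⊕ Fin 4) K) *ᵥ u)
      ((g : Matrix (Fin 4 ⊕ Fin 4) (Fin 4 ⊕ Fin 4) K) *ᵥ v) = polD u v := by
  rw [polD_eq, polD_eq, ← Matrix.mulVec_add, iso_quadD hg, iso_quadD hg, iso_quadD hg]

theorem polD_eD (w : Fin 4 ⊕ Fin 4 → K) (c : Fin 4) : polD w (eD K c) = w (Sum.inr c) := by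
  simp [polD, eD, Pi.single_apply]

theorem polD_fD (w : Fin 4 ⊕ Fin 4 → K) (c : Fin 4) : polD w (fD K c) = w (Sum.inl c) := by
  simp [polD, fD, Pi.single_apply]

theorem polD_smul_right (a : K) (u v : Fin 4 ⊕ Fin 4 → K) : polD u (a • v) = a * polD u v := by
  simp only [polD, Pi.smul_apply, smul_eq_mul, Finset.mul_sum]
  refine Finset.sum_congr rfl (fun i _ => ?_)
  ring

theorem mulVec_single_apply' (M : Matrix (Fin 4 ⊕ Fin 4) (Fin 4 ⊕ Fin 4) K)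
    (i j : Fin 4 ⊕ Fin 4) : (M *ᵥ Pi.single j (1 : K)) i = M i j := by
  simp [Matrix.mulVec_single_one]

/-- Rows and columns of a pair on which `g` is monomial. -/
theorem mono_pair {g : GL (Fin 4 ⊕ Fin 4) K}
    (hg : g ∈ Cfsg.isometryGroup K (Cfsg.quadFormPlus 4 K)) (c : Fin 4) (a : K) (ha : a ≠ 0)
    (he : (g : Matrix (Fin 4 ⊕ Fin 4) (Fin 4 ⊕ Fin 4) K) *ᵥ eD K c = a • eD K c)
    (hf : (g : Matrix (Fin 4 ⊕ Fin 4) (Fin 4 ⊕ Fin 4) K) *ᵥ fD K c = a⁻¹ • fD K c) :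
    (∀ i, i ≠ Sum.inl c → (g : Matrix (Fin 4 ⊕ Fin 4) (Fin 4 ⊕ Fin 4) K) i (Sum.inl c) = 0) ∧
    (∀ i, i ≠ Sum.inr c → (g : Matrix (Fin 4 ⊕ Fin 4) (Fin 4 ⊕ Fin 4) K) i (Sum.inr c) = 0) ∧
    (∀ j, j ≠ Sum.inl c → (g : Matrix (Fin 4 ⊕ Fin 4) (Fin 4 ⊕ Fin 4) K) (Sum.inl c) j = 0) ∧
    (∀ j, j ≠ Sum.inr c → (g : Matrix (Fin 4 ⊕ Fin 4) (Fin 4 ⊕ Fin 4) K) (Sum.inr c) j = 0) := by
  refine ⟨?_, ?_, ?_, ?_⟩
  · intro i hi
    have h := congrFun he i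
    rw [eD, mulVec_single_apply'] at h
    rw [h]
    simp [Pi.single_apply, hi]
  · intro i hi
    have h := congrFun hf i
    rw [fD, mulVec_single_apply'] at h
    rw [h]
    simp [Pi.single_apply, hi]
  · intro j hj
    have h := iso_polD hg (Pi.single j 1) (fD K c)
    rw [hf, polD_smul_right, polD_fD, polD_fD, mulVec_single_apply'] at h
    have h0 : (Pi.single j (1 : K) : Fin 4 ⊕ Fin 4 → K) (Sum.inl c) = 0 := by
      simp [Pi.single_apply, Ne.symm hj]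
    rw [h0] at h
    rcases mul_eq_zero.mp h with h | h
    · exact absurd h (inv_ne_zero ha)
    · exact h
  · intro j hj
    have h := iso_polD hg (Pi.single j 1) (eD K c)
    rw [he, polD_smul_right, polD_eD, polD_eD, mulVec_single_apply'] at h
    have h0 : (Pi.single j (1 : K) : Fin 4 ⊕ Fin 4 → K) (Sum.inr c) = 0 := by
      simp [Pi.single_apply, Ne.symm hj]
    rw [h0] at h
    rcases mul_eq_zero.mp h with h | h
    · exact absurd h ha
    · exact h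

end

/-- [FIN-D4] -/
theorem pkgFinD4 : PkgFinD4.{u} := by
  intro K _ g hg hm
  refine ⟨hg, ?_⟩
  intro i j hij hnot
  have key : ∀ c : Fin 4, c.val < 3 →
      (∀ i, i ≠ Sum.inl c → (g : Matrix (Fin 4 ⊕ Fin 4) (Fin 4 ⊕ Fin 4) K) i (Sum.inl c) = 0) ∧
      (∀ i, i ≠ Sum.inr c → (g : Matrix (Fin 4 ⊕ Fin 4) (Fin 4 ⊕ Fin 4) K) i (Sum.inr c) = 0) ∧
      (∀ j, j ≠ Sum.inl c → (g : Matrix (Fin 4 ⊕ Fin 4) (Fin 4 ⊕ Fin 4) K) (Sum.inl c) j = 0) ∧
      (∀ j, j ≠ Sum.inr c → (g : Matrix (Fin 4 ⊕ Fin 4) (Fin 4 ⊕ Fin 4) K) (Sum.inr c) j = 0) := by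
    intro c hc
    obtain ⟨a, ha, he, hf⟩ := hm c hc
    exact mono_pair hg c a ha he hf
  have h3 : ∀ c : Fin 4, ¬ c.val < 3 → c = 3 := by
    intro c hc
    apply Fin.ext
    have := c.isLt
    show c.val = 3
    omega
  rcases j with c | c
  · by_cases hc : c.val < 3
    · exact (key c hc).1 i hij
    · have hc3 := h3 c hc
      subst hc3
      rcases i with d | d
      · by_cases hd : d.val < 3
        · exact (key d hd).2.2.1 _ (Ne.symm hij)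
        · exact absurd ⟨Or.inl (by rw [h3 d hd]), Or.inl rfl⟩ hnot
      · by_cases hd : d.val < 3
        · exact (key d hd).2.2.2 _ (Ne.symm hij)
        · exact absurd ⟨Or.inr (by rw [h3 d hd]), Or.inl rfl⟩ hnot
  · by_cases hc : c.val < 3
    · exact (key c hc).2.1 i hij
    · have hc3 := h3 c hc
      subst hc3
      rcases i with d | d
      · by_cases hd : d.val < 3
        · exact (key d hd).2.2.1 _ (Ne.symm hij)
        · exact absurd ⟨Or.inl (by rw [h3 d hd]), Or.inr rfl⟩ hnot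
      · by_cases hd : d.val < 3
        · exact (key d hd).2.2.2 _ (Ne.symm hij)
        · exact absurd ⟨Or.inr (by rw [h3 d hd]), Or.inr rfl⟩ hnot

end Cfsg.Agent.Lib.Helper46.CHO
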