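-- Team project CHO (S1082): package [ST-D4-2] (helper46).
import Mathlib
import Cfsg.Agent.Lib.Helper99.CHO.Defs2
import Cfsg.Agent.Lib.Helper46.CHO.FinD4

set_option autoImplicit false
open scoped MatrixGroups
open Matrix

namespace Cfsg.Agent.Lib.Helper46.CHO
open Cfsg.Agent.Lib.Helper99.CHO

universe u

theorem tabD10 : ∀ i j : Fin 4 ⊕ Fin 4, tab3 nListD4 10 (ix8 i) (ix8 j) =
    if (i = Sum.inl 3 ∧ j = Sum.inl 2) then 1 else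
      if (i = Sum.inr 2 ∧ j = Sum.inr 3) then -1 else 0 := by decide

theorem tabD11 : ∀ i j : Fin 4 ⊕ Fin 4, tab3 nListD4 11 (ix8 i) (ix8 j) =
    if (i = Sum.inr 2 ∧ j = Sum.inl 3) then -1 else
      if (i = Sum.inr 3 ∧ j = Sum.inl 2) then 1 else 0 := by decide

theorem tabD12 : ∀ i j : Fin 4 ⊕ Fin 4, tab3 nListD4 12 (ix8 i) (ix8 j) =
    if (i = Sum.inl 2 ∧ j = Sum.inr 3) then 1 else
      if (i = Sum.inl 3 ∧ j = Sum.inr 2) then -1 else 0 := by decide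

theorem tabD13 : ∀ i j : Fin 4 ⊕ Fin 4, tab3 nListD4 13 (ix8 i) (ix8 j) =
    if (i = Sum.inl 2 ∧ j = Sum.inl 3) then 1 else
      if (i = Sum.inr 3 ∧ j = Sum.inr 2) then -1 else 0 := by decide

section
variable {K : Type u} [Field K]

theorem ED4mat_mulVec (r : ℕ) (t : K) (v : Fin 4 ⊕ Fin 4 → K) (i : Fin 4 ⊕ Fin 4) :
    (ED4mat K r t *ᵥ v) i =
      v i + t * ∑ j, ((tab3 nListD4 r (ix8 i) (ix8 j) : ℤ) : K) * v j := by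
  rw [ED4mat, Matrix.add_mulVec, Matrix.one_mulVec, Matrix.smul_mulVec]
  rfl

theorem E10_mulVec (t : K) (v : Fin 4 ⊕ Fin 4 → K) :
    ED4mat K 10 t *ᵥ v = fun i => v i + t * ((if i = Sum.inl 3 then v (Sum.inl 2) else 0)
      - (if i = Sum.inr 2 then v (Sum.inr 3) else 0)) := by
  funext i
  rw [ED4mat_mulVec]
  simp only [tabD10]
  rcases i with i | i <;> fin_cases i <;> simp [Fintype.sum_sum_type, Fin.sum_univ_four]

theorem E11_mulVec (t : K) (v : Fin 4 ⊕ Fin 4 → K) :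
    ED4mat K 11 t *ᵥ v = fun i => v i + t * ((if i = Sum.inr 3 then v (Sum.inl 2) else 0)
      - (if i = Sum.inr 2 then v (Sum.inl 3) else 0)) := by
  funext i
  rw [ED4mat_mulVec]
  simp only [tabD11]
  rcases i with i | i <;> fin_cases i <;> simp [Fintype.sum_sum_type, Fin.sum_univ_four]

theorem E12_mulVec (t : K) (v : Fin 4 ⊕ Fin 4 → K) :
    ED4mat K 12 t *ᵥ v = fun i => v i + t * ((if i = Sum.inl 2 then v (Sum.inr 3) else 0)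
      - (if i = Sum.inl 3 then v (Sum.inr 2) else 0)) := by
  funext i
  rw [ED4mat_mulVec]
  simp only [tabD12]
  rcases i with i | i <;> fin_cases i <;> simp [Fintype.sum_sum_type, Fin.sum_univ_four]

theorem E13_mulVec (t : K) (v : Fin 4 ⊕ Fin 4 → K) :
    ED4mat K 13 t *ᵥ v = fun i => v i + t * ((if i = Sum.inl 2 then v (Sum.inl 3) else 0)
      - (if i = Sum.inr 3 then v (Sum.inr 2) else 0)) := by
  funext i
  rw [ED4mat_mulVec]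
  simp only [tabD13]
  rcases i with i | i <;> fin_cases i <;> simp [Fintype.sum_sum_type, Fin.sum_univ_four]

/-- The vector `x3 e3 + x4 e4 + y3 f3 + y4 f4`. -/
def vec4 (x3 x4 y3 y4 : K) : Fin 4 ⊕ Fin 4 → K := fun i =>
  if i = Sum.inl 2 then x3 else if i = Sum.inl 3 then x4 else
    if i = Sum.inr 2 then y3 else if i = Sum.inr 3 then y4 else 0

theorem vec4_of (v : Fin 4 ⊕ Fin 4 → K)
    (h : ∀ c : Fin 4, c.val < 2 → v (Sum.inl c) = 0 ∧ v (Sum.inr c) = 0) :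
    v = vec4 (v (Sum.inl 2)) (v (Sum.inl 3)) (v (Sum.inr 2)) (v (Sum.inr 3)) := by
  have h0 := h 0 (by decide)
  have h1 := h 1 (by decide)
  funext i
  rcases i with i | i <;> fin_cases i <;> simp [vec4, h0.1, h0.2, h1.1, h1.2]

theorem vec4_e (a : K) : vec4 a 0 0 0 = a • eD K 2 := by
  funext i
  rcases i with i | i <;> fin_cases i <;> simp [vec4, eD]

theorem vec4_f (b : K) : vec4 0 0 b 0 = b • fD K 2 := by
  funext i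
  rcases i with i | i <;> fin_cases i <;> simp [vec4, fD]

theorem quad_vec4 (x3 x4 y3 y4 : K) :
    Cfsg.quadFormPlus 4 K (vec4 x3 x4 y3 y4) = x3 * y3 + x4 * y4 := by
  simp [Cfsg.quadFormPlus, Fin.sum_univ_four, vec4]

theorem E10_vec4 (t x3 x4 y3 y4 : K) :
    ED4mat K 10 t *ᵥ vec4 x3 x4 y3 y4 = vec4 x3 (x4 + t * x3) (y3 - t * y4) y4 := by
  rw [E10_mulVec]
  funext i
  rcases i with i | i <;> fin_cases i <;> simp [vec4] <;> ring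

theorem E11_vec4 (t x3 x4 y3 y4 : K) :
    ED4mat K 11 t *ᵥ vec4 x3 x4 y3 y4 = vec4 x3 x4 (y3 - t * x4) (y4 + t * x3) := by
  rw [E11_mulVec]
  funext i
  rcases i with i | i <;> fin_cases i <;> simp [vec4] <;> ring

theorem E12_vec4 (t x3 x4 y3 y4 : K) :
    ED4mat K 12 t *ᵥ vec4 x3 x4 y3 y4 = vec4 (x3 + t * y4) (x4 - t * y3) y3 y4 := by
  rw [E12_mulVec]
  funext i
  rcases i with i | i <;> fin_cases i <;> simp [vec4] <;> ring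

theorem E13_vec4 (t x3 x4 y3 y4 : K) :
    ED4mat K 13 t *ᵥ vec4 x3 x4 y3 y4 = vec4 (x3 + t * x4) x4 y3 (y4 - t * y3) := by
  rw [E13_mulVec]
  funext i
  rcases i with i | i <;> fin_cases i <;> simp [vec4] <;> ring

theorem E10_iso (t : K) (v : Fin 4 ⊕ Fin 4 → K) :
    Cfsg.quadFormPlus 4 K (ED4mat K 10 t *ᵥ v) = Cfsg.quadFormPlus 4 K v := by
  rw [E10_mulVec]
  simp [Cfsg.quadFormPlus, Fin.sum_univ_four]
  ring

theorem E11_iso (t : K) (v : Fin 4 ⊕ Fin 4 → K) :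
    Cfsg.quadFormPlus 4 K (ED4mat K 11 t *ᵥ v) = Cfsg.quadFormPlus 4 K v := by
  rw [E11_mulVec]
  simp [Cfsg.quadFormPlus, Fin.sum_univ_four]
  ring

theorem E12_iso (t : K) (v : Fin 4 ⊕ Fin 4 → K) :
    Cfsg.quadFormPlus 4 K (ED4mat K 12 t *ᵥ v) = Cfsg.quadFormPlus 4 K v := by
  rw [E12_mulVec]
  simp [Cfsg.quadFormPlus, Fin.sum_univ_four]
  ring

theorem E13_iso (t : K) (v : Fin 4 ⊕ Fin 4 → K) :
    Cfsg.quadFormPlus 4 K (ED4mat K 13 t *ᵥ v) = Cfsg.quadFormPlus 4 K v := by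
  rw [E13_mulVec]
  simp [Cfsg.quadFormPlus, Fin.sum_univ_four]
  ring

/-- Elements of `R` that are isometries and fix every vector supported on the first two
hyperbolic pairs. -/
def GoodT (ρ : GL (Fin 4 ⊕ Fin 4) K) : Prop :=
  ρ ∈ RD4 K ∧ ρ ∈ Cfsg.isometryGroup K (Cfsg.quadFormPlus 4 K) ∧
    ∀ v : Fin 4 ⊕ Fin 4 → K, v (Sum.inl 2) = 0 → v (Sum.inl 3) = 0 → v (Sum.inr 2) = 0 →
      v (Sum.inr 3) = 0 → (ρ : Matrix (Fin 4 ⊕ Fin 4) (Fin 4 ⊕ Fin 4) K) *ᵥ v = v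

theorem goodT_one : GoodT (1 : GL (Fin 4 ⊕ Fin 4) K) :=
  ⟨Subgroup.one_mem _, Subgroup.one_mem _, fun v _ _ _ _ => by simp⟩

theorem goodT_mul {ρ σ : GL (Fin 4 ⊕ Fin 4) K} (hρ : GoodT ρ) (hσ : GoodT σ) :
    GoodT (ρ * σ) := by
  refine ⟨Subgroup.mul_mem _ hρ.1 hσ.1, Subgroup.mul_mem _ hρ.2.1 hσ.2.1, ?_⟩
  intro v h1 h2 h3 h4
  rw [Units.val_mul, ← Matrix.mulVec_mulVec, hσ.2.2 v h1 h2 h3 h4, hρ.2.2 v h1 h2 h3 h4]

theorem mul_mulVec' (ρ σ : GL (Fin 4 ⊕ Fin 4) K) (v : Fin 4 ⊕ Fin 4 → K) :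
    ((ρ * σ : GL (Fin 4 ⊕ Fin 4) K) : Matrix (Fin 4 ⊕ Fin 4) (Fin 4 ⊕ Fin 4) K) *ᵥ v
      = (ρ : Matrix (Fin 4 ⊕ Fin 4) (Fin 4 ⊕ Fin 4) K) *ᵥ
        ((σ : Matrix (Fin 4 ⊕ Fin 4) (Fin 4 ⊕ Fin 4) K) *ᵥ v) := by
  rw [Units.val_mul, ← Matrix.mulVec_mulVec]

theorem coe_ED4' (hU : PkgUnitD4.{u}) (r : Fin Cfsg.Lie.chevD4.nroots) (t : K) :
    ((ED4 K r t : GL (Fin 4 ⊕ Fin 4) K) : Matrix (Fin 4 ⊕ Fin 4) (Fin 4 ⊕ Fin 4) K)
      = ED4mat K r.val t := by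
  unfold ED4
  rw [dif_pos (hU K r.val t r.isLt)]
  rfl

theorem ED4_mem (r : Fin Cfsg.Lie.chevD4.nroots) (t : K) : ED4 K r t ∈ RD4 K :=
  Subgroup.subset_closure ⟨(r, t), rfl⟩

theorem goodT_E10 (hU : PkgUnitD4.{u}) (t : K) : GoodT (ED4 K ⟨10, by decide⟩ t) := by
  refine ⟨ED4_mem _ _, ?_, ?_⟩
  · intro u _
    show Cfsg.quadFormPlus 4 K (((ED4 K ⟨10, by decide⟩ t : GL (Fin 4 ⊕ Fin 4) K) :
      Matrix (Fin 4 ⊕ Fin 4) (Fin 4 ⊕ Fin 4) K) *ᵥ u) = _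
    rw [coe_ED4' hU]
    exact E10_iso t u
  · intro v h1 h2 h3 h4
    rw [coe_ED4' hU, E10_mulVec]
    funext i
    simp [h1, h2, h3, h4]

theorem goodT_E11 (hU : PkgUnitD4.{u}) (t : K) : GoodT (ED4 K ⟨11, by decide⟩ t) := by
  refine ⟨ED4_mem _ _, ?_, ?_⟩
  · intro u _
    show Cfsg.quadFormPlus 4 K (((ED4 K ⟨11, by decide⟩ t : GL (Fin 4 ⊕ Fin 4) K) :
      Matrix (Fin 4 ⊕ Fin 4) (Fin 4 ⊕ Fin 4) K) *ᵥ u) = _
    rw [coe_ED4' hU]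
    exact E11_iso t u
  · intro v h1 h2 h3 h4
    rw [coe_ED4' hU, E11_mulVec]
    funext i
    simp [h1, h2, h3, h4]

theorem goodT_E12 (hU : PkgUnitD4.{u}) (t : K) : GoodT (ED4 K ⟨12, by decide⟩ t) := by
  refine ⟨ED4_mem _ _, ?_, ?_⟩
  · intro u _
    show Cfsg.quadFormPlus 4 K (((ED4 K ⟨12, by decide⟩ t : GL (Fin 4 ⊕ Fin 4) K) :
      Matrix (Fin 4 ⊕ Fin 4) (Fin 4 ⊕ Fin 4) K) *ᵥ u) = _
    rw [coe_ED4' hU]
    exact E12_iso t u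
  · intro v h1 h2 h3 h4
    rw [coe_ED4' hU, E12_mulVec]
    funext i
    simp [h1, h2, h3, h4]

theorem goodT_E13 (hU : PkgUnitD4.{u}) (t : K) : GoodT (ED4 K ⟨13, by decide⟩ t) := by
  refine ⟨ED4_mem _ _, ?_, ?_⟩
  · intro u _
    show Cfsg.quadFormPlus 4 K (((ED4 K ⟨13, by decide⟩ t : GL (Fin 4 ⊕ Fin 4) K) :
      Matrix (Fin 4 ⊕ Fin 4) (Fin 4 ⊕ Fin 4) K) *ᵥ u) = _
    rw [coe_ED4' hU]
    exact E13_iso t u
  · intro v h1 h2 h3 h4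
    rw [coe_ED4' hU, E13_mulVec]
    funext i
    simp [h1, h2, h3, h4]

theorem act10 (hU : PkgUnitD4.{u}) (t x3 x4 y3 y4 : K) :
    ((ED4 K ⟨10, by decide⟩ t : GL (Fin 4 ⊕ Fin 4) K) :
      Matrix (Fin 4 ⊕ Fin 4) (Fin 4 ⊕ Fin 4) K) *ᵥ vec4 x3 x4 y3 y4
      = vec4 x3 (x4 + t * x3) (y3 - t * y4) y4 := by
  rw [coe_ED4' hU]; exact E10_vec4 t x3 x4 y3 y4

theorem act11 (hU : PkgUnitD4.{u}) (t x3 x4 y3 y4 : K) :
    ((ED4 K ⟨11, by decide⟩ t : GL (Fin 4 ⊕ Fin 4) K) :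
      Matrix (Fin 4 ⊕ Fin 4) (Fin 4 ⊕ Fin 4) K) *ᵥ vec4 x3 x4 y3 y4
      = vec4 x3 x4 (y3 - t * x4) (y4 + t * x3) := by
  rw [coe_ED4' hU]; exact E11_vec4 t x3 x4 y3 y4

theorem act12 (hU : PkgUnitD4.{u}) (t x3 x4 y3 y4 : K) :
    ((ED4 K ⟨12, by decide⟩ t : GL (Fin 4 ⊕ Fin 4) K) :
      Matrix (Fin 4 ⊕ Fin 4) (Fin 4 ⊕ Fin 4) K) *ᵥ vec4 x3 x4 y3 y4
      = vec4 (x3 + t * y4) (x4 - t * y3) y3 y4 := by
  rw [coe_ED4' hU]; exact E12_vec4 t x3 x4 y3 y4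

theorem act13 (hU : PkgUnitD4.{u}) (t x3 x4 y3 y4 : K) :
    ((ED4 K ⟨13, by decide⟩ t : GL (Fin 4 ⊕ Fin 4) K) :
      Matrix (Fin 4 ⊕ Fin 4) (Fin 4 ⊕ Fin 4) K) *ᵥ vec4 x3 x4 y3 y4
      = vec4 (x3 + t * x4) x4 y3 (y4 - t * y3) := by
  rw [coe_ED4' hU]; exact E13_vec4 t x3 x4 y3 y4

/-- Stage 1a: `x3 ≠ 0`. -/
theorem stage1a (hU : PkgUnitD4.{u}) (x3 x4 y3 y4 : K) (hx : x3 ≠ 0)
    (hq : x3 * y3 + x4 * y4 = 0) :
    ∃ ρ : GL (Fin 4 ⊕ Fin 4) K, GoodT ρ ∧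
      (ρ : Matrix (Fin 4 ⊕ Fin 4) (Fin 4 ⊕ Fin 4) K) *ᵥ vec4 x3 x4 y3 y4 = vec4 x3 0 0 0 := by
  refine ⟨ED4 K ⟨11, by decide⟩ (-y4 / x3) * ED4 K ⟨10, by decide⟩ (-x4 / x3),
    goodT_mul (goodT_E11 hU _) (goodT_E10 hU _), ?_⟩
  rw [mul_mulVec', act10 hU, act11 hU]
  have e1 : x4 + -x4 / x3 * x3 = 0 := by
    first | (field_simp; ring) | field_simp | ring
  have e3 : y4 + -y4 / x3 * x3 = 0 := by
    first | (field_simp; ring) | field_simp | ring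
  have e2 : y3 - -x4 / x3 * y4 = 0 := by
    have : y3 - -x4 / x3 * y4 = (x3 * y3 + x4 * y4) / x3 := by
      first | (field_simp; ring) | field_simp | ring
    rw [this, hq, zero_div]
  rw [e1, e3, mul_zero, sub_zero, e2]

/-- Stage 1: a nonzero singular vector supported on the last two pairs is moved to `a e3`. -/
theorem stage1 (hU : PkgUnitD4.{u}) (x3 x4 y3 y4 : K)
    (hne : ¬ (x3 = 0 ∧ x4 = 0 ∧ y3 = 0 ∧ y4 = 0)) (hq : x3 * y3 + x4 * y4 = 0) :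
    ∃ ρ : GL (Fin 4 ⊕ Fin 4) K, GoodT ρ ∧ ∃ a : K, a ≠ 0 ∧
      (ρ : Matrix (Fin 4 ⊕ Fin 4) (Fin 4 ⊕ Fin 4) K) *ᵥ vec4 x3 x4 y3 y4 = vec4 a 0 0 0 := by
  by_cases hx3 : x3 = 0
  · by_cases hx4 : x4 = 0
    · by_cases hy4 : y4 = 0
      · have hy3 : y3 ≠ 0 := fun h => hne ⟨hx3, hx4, h, hy4⟩
        subst hx3 hx4 hy4
        -- E12(1): vec4 0 (-y3) y3 0; E13(1): vec4 (-y3) (-y3) y3 (-y3)
        obtain ⟨ρ, hρ, hact⟩ := stage1a hU (0 + 1 * (0 - 1 * y3)) (0 - 1 * y3) y3 (0 - 1 * y3)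
          (by simpa using hy3) (by ring)
        refine ⟨ρ * (ED4 K ⟨13, by decide⟩ 1 * ED4 K ⟨12, by decide⟩ 1),
          goodT_mul hρ (goodT_mul (goodT_E13 hU _) (goodT_E12 hU _)),
          (0 + 1 * (0 - 1 * y3)), ?_, ?_⟩
        · exact (by simpa using hy3 : (0 + 1 * (0 - 1 * y3) : K) ≠ 0)
        · rw [mul_mulVec', mul_mulVec', act12 hU, act13 hU]
          have e : (0 : K) + 1 * 0 = 0 := by ring
          rw [e]
          exact hact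
      · subst hx3 hx4
        obtain ⟨ρ, hρ, hact⟩ := stage1a hU (0 + 1 * y4) (0 - 1 * y3) y3 y4
          (by simpa using hy4) (by ring)
        refine ⟨ρ * ED4 K ⟨12, by decide⟩ 1, goodT_mul hρ (goodT_E12 hU _),
          (0 + 1 * y4), ?_, ?_⟩
        · exact (by simpa using hy4 : (0 + 1 * y4 : K) ≠ 0)
        · rw [mul_mulVec', act12 hU]
          exact hact
    · subst hx3
      obtain ⟨ρ, hρ, hact⟩ := stage1a hU (0 + 1 * x4) x4 y3 (y4 - 1 * y3)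
        (by simpa using hx4) (by linear_combination hq)
      refine ⟨ρ * ED4 K ⟨13, by decide⟩ 1, goodT_mul hρ (goodT_E13 hU _),
        (0 + 1 * x4), ?_, ?_⟩
      · exact (by simpa using hx4 : (0 + 1 * x4 : K) ≠ 0)
      · rw [mul_mulVec', act13 hU]
        exact hact
  · obtain ⟨ρ, hρ, hact⟩ := stage1a hU x3 x4 y3 y4 hx3 hq
    exact ⟨ρ, hρ, x3, hx3, hact⟩

/-- Stage 2: the image of `f3` is moved to `b f3` by elements fixing `e3`. -/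
theorem stage2 (hU : PkgUnitD4.{u}) (p3 p4 b q4 : K) (hb : b ≠ 0)
    (hq : p3 * b + p4 * q4 = 0) :
    ∃ ρ : GL (Fin 4 ⊕ Fin 4) K, GoodT ρ ∧
      (ρ : Matrix (Fin 4 ⊕ Fin 4) (Fin 4 ⊕ Fin 4) K) *ᵥ vec4 1 0 0 0 = vec4 1 0 0 0 ∧
      (ρ : Matrix (Fin 4 ⊕ Fin 4) (Fin 4 ⊕ Fin 4) K) *ᵥ vec4 p3 p4 b q4 = vec4 0 0 b 0 := by
  refine ⟨ED4 K ⟨13, by decide⟩ (q4 / b) * ED4 K ⟨12, by decide⟩ (p4 / b),
    goodT_mul (goodT_E13 hU _) (goodT_E12 hU _), ?_, ?_⟩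
  · rw [mul_mulVec', act12 hU, act13 hU]
    congr 1 <;> ring
  · rw [mul_mulVec', act12 hU, act13 hU]
    have e1 : p4 - p4 / b * b = 0 := by
      first | (field_simp; ring) | field_simp | ring
    have e3 : q4 - q4 / b * b = 0 := by
      first | (field_simp; ring) | field_simp | ring
    have e2 : p3 + p4 / b * q4 = 0 := by
      have : p3 + p4 / b * q4 = (p3 * b + p4 * q4) / b := by
        first | (field_simp; ring) | field_simp | ring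
      rw [this, hq, zero_div]
    rw [e1, e3, mul_zero, add_zero, e2]

end

/-- [ST-D4-2] -/
theorem pkgStD4_2_of (hU : PkgUnitD4.{u}) : PkgStD4.{u} 2 := by
  intro K _ g hg hm
  -- rows of the first two pairs
  have rows : ∀ (h : GL (Fin 4 ⊕ Fin 4) K),
      h ∈ Cfsg.isometryGroup K (Cfsg.quadFormPlus 4 K) → MonoD4 K 2 h →
      ∀ (w : Fin 4 ⊕ Fin 4 → K) (j : Fin 4 ⊕ Fin 4), w = Pi.single j 1 →
      (j = Sum.inl 2 ∨ j = Sum.inr 2) → ∀ c : Fin 4, c.val < 2 →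
        ((h : Matrix (Fin 4 ⊕ Fin 4) (Fin 4 ⊕ Fin 4) K) *ᵥ w) (Sum.inl c) = 0 ∧
        ((h : Matrix (Fin 4 ⊕ Fin 4) (Fin 4 ⊕ Fin 4) K) *ᵥ w) (Sum.inr c) = 0 := by
    intro h hh hmh w j hw hj c hc
    obtain ⟨a, ha, he, hf⟩ := hmh c hc
    have hp := mono_pair hh c a ha he hf
    subst hw
    rw [mulVec_single_apply', mulVec_single_apply']
    have hc2 : c ≠ 2 := by
      intro h2; rw [h2] at hc; exact absurd hc (by decide)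
    constructor
    · apply hp.2.2.1
      rcases hj with hj | hj <;> rw [hj] <;> simp [hc2.symm]
    · apply hp.2.2.2
      rcases hj with hj | hj <;> rw [hj] <;> simp [hc2.symm]
  set v := (g : Matrix (Fin 4 ⊕ Fin 4) (Fin 4 ⊕ Fin 4) K) *ᵥ eD K 2 with hv
  have hv4 := vec4_of v (rows g hg hm (eD K 2) (Sum.inl 2) rfl (Or.inl rfl))
  have hQv : Cfsg.quadFormPlus 4 K v = 0 := by
    rw [hv, iso_quadD hg]
    simp [Cfsg.quadFormPlus, Fin.sum_univ_four, eD]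
  have hpol : polD ((g : Matrix (Fin 4 ⊕ Fin 4) (Fin 4 ⊕ Fin 4) K) *ᵥ fD K 2) v = 1 := by
    rw [hv, iso_polD hg, polD_eD]
    simp [fD]
  have hvne : ¬ (v (Sum.inl 2) = 0 ∧ v (Sum.inl 3) = 0 ∧ v (Sum.inr 2) = 0 ∧
      v (Sum.inr 3) = 0) := by
    rintro ⟨h1, h2, h3, h4⟩
    rw [hv4, h1, h2, h3, h4] at hpol
    have : vec4 (0 : K) 0 0 0 = (0 : K) • eD K 2 := vec4_e 0
    rw [this, polD_smul_right, zero_mul] at hpol
    exact zero_ne_one hpol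
  have hq1 : v (Sum.inl 2) * v (Sum.inr 2) + v (Sum.inl 3) * v (Sum.inr 3) = 0 := by
    rw [← quad_vec4, ← hv4]; exact hQv
  obtain ⟨ρ₁, hρ₁, a, ha, hact₁⟩ := stage1 hU _ _ _ _ hvne hq1
  rw [← hv4, vec4_e] at hact₁
  -- the new element
  have hg1 : ρ₁ * g ∈ Cfsg.isometryGroup K (Cfsg.quadFormPlus 4 K) :=
    Subgroup.mul_mem _ hρ₁.2.1 hg
  have fixe : ∀ (ρ : GL (Fin 4 ⊕ Fin 4) K), GoodT ρ → ∀ c : Fin 4, c.val < 2 →
      (ρ : Matrix (Fin 4 ⊕ Fin 4) (Fin 4 ⊕ Fin 4) K) *ᵥ eD K c = eD K c ∧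
      (ρ : Matrix (Fin 4 ⊕ Fin 4) (Fin 4 ⊕ Fin 4) K) *ᵥ fD K c = fD K c := by
    intro ρ hρ c hc
    have hc2 : c ≠ 2 := by
      intro h2; rw [h2] at hc; exact absurd hc (by decide)
    have hc3 : c ≠ 3 := by
      intro h2; rw [h2] at hc; exact absurd hc (by decide)
    constructor
    · apply hρ.2.2 <;> simp [eD, hc2.symm, hc3.symm]
    · apply hρ.2.2 <;> simp [fD, hc2.symm, hc3.symm]
  have mono_mul : ∀ (ρ h : GL (Fin 4 ⊕ Fin 4) K), GoodT ρ → MonoD4 K 2 h →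
      MonoD4 K 2 (ρ * h) := by
    intro ρ h hρ hmh c hc
    obtain ⟨b, hb, he, hf⟩ := hmh c hc
    refine ⟨b, hb, ?_, ?_⟩
    · rw [mul_mulVec', he, Matrix.mulVec_smul, (fixe ρ hρ c hc).1]
    · rw [mul_mulVec', hf, Matrix.mulVec_smul, (fixe ρ hρ c hc).2]
  have hm1 : MonoD4 K 2 (ρ₁ * g) := mono_mul ρ₁ g hρ₁ hm
  have he1 : ((ρ₁ * g : GL (Fin 4 ⊕ Fin 4) K) : Matrix (Fin 4 ⊕ Fin 4) (Fin 4 ⊕ Fin 4) K)
      *ᵥ eD K 2 = a • eD K 2 := by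
    rw [mul_mulVec']; exact hact₁
  set w := ((ρ₁ * g : GL (Fin 4 ⊕ Fin 4) K) : Matrix (Fin 4 ⊕ Fin 4) (Fin 4 ⊕ Fin 4) K)
      *ᵥ fD K 2 with hw
  have hw4 := vec4_of w (rows (ρ₁ * g) hg1 hm1 (fD K 2) (Sum.inr 2) rfl (Or.inr rfl))
  have hQw : Cfsg.quadFormPlus 4 K w = 0 := by
    rw [hw, iso_quadD hg1]
    simp [Cfsg.quadFormPlus, Fin.sum_univ_four, fD]
  have hwb : w (Sum.inr 2) = a⁻¹ := by
    have h := iso_polD hg1 (fD K 2) (eD K 2)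
    rw [he1, polD_smul_right, polD_eD, polD_eD, ← hw] at h
    have h1 : (fD K 2 : Fin 4 ⊕ Fin 4 → K) (Sum.inr 2) = 1 := by simp [fD]
    rw [h1] at h
    exact eq_inv_of_mul_eq_one_right h
  have hq2 : w (Sum.inl 2) * a⁻¹ + w (Sum.inl 3) * w (Sum.inr 3) = 0 := by
    rw [← hwb, ← quad_vec4, ← hw4]; exact hQw
  obtain ⟨ρ₂, hρ₂, hfix₂, hact₂⟩ := stage2 hU _ _ _ _ (inv_ne_zero ha) hq2
  rw [← hwb, ← hw4, hwb, vec4_f] at hact₂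
  have hfix₂' : (ρ₂ : Matrix (Fin 4 ⊕ Fin 4) (Fin 4 ⊕ Fin 4) K) *ᵥ eD K 2 = eD K 2 := by
    have := hfix₂
    rw [vec4_e, one_smul] at this
    exact this
  refine ⟨ρ₂ * ρ₁, Subgroup.mul_mem _ hρ₂.1 hρ₁.1, ?_⟩
  have hm2 : MonoD4 K 2 (ρ₂ * (ρ₁ * g)) := mono_mul ρ₂ _ hρ₂ hm1
  rw [mul_assoc]
  intro c hc
  by_cases hc2 : c.val < 2
  · exact hm2 c hc2
  · have hc2' : c = 2 := by
      apply Fin.ext
      show c.val = 2
      omega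
    subst hc2'
    refine ⟨a, ha, ?_, ?_⟩
    · rw [mul_mulVec', he1, Matrix.mulVec_smul, hfix₂']
    · rw [mul_mulVec', ← hw]; exact hact₂

end Cfsg.Agent.Lib.Helper46.CHO
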